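import Groth.Agent.Desc20.Const
import Groth.Agent.An92.FSch.Basic
import Groth.Agent.LimTop61.IdealLfp
import Groth.Agent.FDesc60.Topo2

/-!
# Descent of flat closed subschemes along a smooth proper morphism: the affine case
-/

set_option autoImplicit false
universe u
open CategoryTheory CategoryTheory.Limits AlgebraicGeometry TopologicalSpace
open scoped TensorProduct

namespace Groth.Agent.Desc20

open An92.FSch (toIdeal toIdeal_ker toIdeal_comap toIdeal_injective toIdeal_idealSpec)

theorem exists_fg_le_sup_map {S P F : Type u} [CommRing S] [CommRing P] [FunLike F S P]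
    [RingHomClass F S P] (f : F) {K : Ideal P}
    (hK : K.FG) {K₀ : Ideal P} {J : Ideal S} (h : K ≤ K₀ ⊔ J.map f) :
    ∃ J' : Ideal S, J'.FG ∧ J' ≤ J ∧ K ≤ K₀ ⊔ J'.map f := by
  classical
  obtain ⟨s, rfl⟩ := hK
  induction s using Finset.induction_on with
  | empty => exact ⟨⊥, Submodule.fg_bot, bot_le, by simp⟩
  | insert a t hat ih =>
    have h' : Submodule.span P (t : Set P) ≤ K₀ ⊔ J.map f :=
      le_trans (Submodule.span_mono (by simp)) h
    obtain ⟨J', hfg, hle, hJ'⟩ := ih h'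
    have ha : a ∈ K₀ ⊔ J.map f := h (Submodule.subset_span (by simp))
    obtain ⟨k, hk, y, hy, rfl⟩ := Submodule.mem_sup.mp ha
    obtain ⟨T, hT, hyT⟩ := Submodule.mem_span_finite_of_mem_span hy
    obtain ⟨T', hT', rfl⟩ := Finset.subset_set_image_iff.mp hT
    refine ⟨J' ⊔ Ideal.span (T' : Set S), Submodule.FG.sup hfg ⟨T', rfl⟩, sup_le hle (Ideal.span_le.mpr hT'), ?_⟩
    rw [Finset.coe_insert, Submodule.span_le, Set.insert_subset_iff]
    refine ⟨Submodule.mem_sup.mpr ⟨k, hk, y, ?_, rfl⟩, ?_⟩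
    · refine Ideal.map_mono le_sup_right ?_
      rw [Ideal.map_span, ← Finset.coe_image]
      exact hyT
    · exact Submodule.subset_span.trans
        (hJ'.trans (sup_le_sup_left (Ideal.map_mono le_sup_left) K₀))

theorem toIdeal_nilradical (R : CommRingCat.{u}) :
    toIdeal (Spec R).nilradical = nilradical R := by
  rw [An92.FSch.toIdeal_eq_comap]
  ext x
  rw [Ideal.mem_comap]
  show (Scheme.ΓSpecIso R).inv.hom x ∈
    ((⊥ : (Spec R).IdealSheafData).ideal ⟨⊤, isAffineOpen_top _⟩).radical ↔ _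
  rw [mem_nilradical, Ideal.mem_radical_iff]
  refine exists_congr fun n => ?_
  rw [← map_pow]
  exact map_eq_zero_iff _ (Scheme.ΓSpecIso R).symm.commRingCatIsoToRingEquiv.injective

theorem le_of_toIdeal_le {R : CommRingCat.{u}} {I J : (Spec R).IdealSheafData}
    (h : toIdeal I ≤ toIdeal J) : I ≤ J := by
  refine Scheme.IdealSheafData.le_of_isAffine ?_
  rw [An92.FSch.toIdeal_eq_comap, An92.FSch.toIdeal_eq_comap] at h
  intro x hx
  obtain ⟨y, rfl⟩ := (Scheme.ΓSpecIso R).symm.commRingCatIsoToRingEquiv.surjective x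
  exact h hx

theorem flat_comp_of_ker_eq {T P S : Scheme.{u}} (j : T ⟶ P) [IsClosedImmersion j]
    (I : P.IdealSheafData) (h : j.ker = I) (s : P ⟶ S) [Flat (I.subschemeι ≫ s)] : Flat (j ≫ s) := by
  subst h
  rw [← j.toImage_imageι, Category.assoc]
  have : Flat (j.imageι ≫ s) := ‹Flat (j.ker.subschemeι ≫ s)›
  infer_instance

set_option backward.isDefEq.respectTransparency false in
theorem flat_sigmaDesc {ι : Type u} {Y : ι → Scheme.{u}} {X : Scheme.{u}} (f : ∀ i, Y i ⟶ X)
    [∀ i, Flat (f i)] : Flat (Sigma.desc f) :=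
  IsZariskiLocalAtSource.sigmaDesc (P := @Flat.{u}) fun i => inferInstance

variable {R A : CommRingCat.{u}} [Algebra R A] {G : Scheme.{u}} (g : G ⟶ Spec R)

/-- The map `Spec (A ⊗ E) ⟶ Spec A ×_R G` given by `w : Spec E ⟶ G`. -/
noncomputable def phi {E : CommRingCat.{u}} [Algebra R E] (w : Spec E ⟶ G)
    (hw : w ≫ g = Spec.map (CommRingCat.ofHom (algebraMap R E))) :
    Spec (CommRingCat.of (A ⊗[R] E)) ⟶ pullback (Spec.map (CommRingCat.ofHom (algebraMap R A))) g :=
  pullback.lift (Spec.map (CommRingCat.ofHom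
      (Algebra.TensorProduct.includeLeftRingHom : A →+* A ⊗[R] E)))
    (Spec.map (CommRingCat.ofHom
      (Algebra.TensorProduct.includeRight (R := R) (A := A) (B := E)).toRingHom) ≫ w)
    (by
      rw [Category.assoc, hw]
      exact (isPullback_SpecMap_of_isPushout _ _ _ _
        (CommRingCat.isPushout_tensorProduct (R : Type u) A E)).w)

theorem phi_fst {E : CommRingCat.{u}} [Algebra R E] (w : Spec E ⟶ G)
    (hw : w ≫ g = Spec.map (CommRingCat.ofHom (algebraMap R E))) :
    phi (A := A) g w hw ≫ pullback.fst _ g = Spec.map (CommRingCat.ofHom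
      (Algebra.TensorProduct.includeLeftRingHom : A →+* A ⊗[R] E)) :=
  pullback.lift_fst _ _ _

theorem isPullback_phi {E : CommRingCat.{u}} [Algebra R E] (w : Spec E ⟶ G)
    (hw : w ≫ g = Spec.map (CommRingCat.ofHom (algebraMap R E))) :
    IsPullback (phi (A := A) g w hw) (Spec.map (CommRingCat.ofHom
      (Algebra.TensorProduct.includeRight (R := R) (A := A) (B := E)).toRingHom))
      (pullback.snd _ g) w := by
  refine IsPullback.of_right ?_ (pullback.lift_snd _ _ _)
    (IsPullback.of_hasPullback (Spec.map (CommRingCat.ofHom (algebraMap R A))) g)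
  rw [phi, pullback.lift_fst, hw]
  exact isPullback_SpecMap_of_isPushout _ _ _ _
    (CommRingCat.isPushout_tensorProduct (R : Type u) A E)

theorem phi_comp {E E' : CommRingCat.{u}} [Algebra R E] [Algebra R E'] (w : Spec E ⟶ G)
    (hw : w ≫ g = Spec.map (CommRingCat.ofHom (algebraMap R E))) (ψ : E →ₐ[R] E') (w' : Spec E' ⟶ G)
    (hw' : w' ≫ g = Spec.map (CommRingCat.ofHom (algebraMap R E')))
    (h : Spec.map (CommRingCat.ofHom ψ.toRingHom) ≫ w = w') :
    Spec.map (CommRingCat.ofHom (tmap (A := A) ψ).toRingHom) ≫ phi (A := A) g w hw =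
      phi (A := A) g w' hw' := by
  apply pullback.hom_ext
  · simp only [phi, Category.assoc, pullback.lift_fst]
    rw [← Spec.map_comp, ← CommRingCat.ofHom_comp]
    congr 2
    refine RingHom.ext fun a => ?_
    show tmap (A := A) ψ (a ⊗ₜ 1) = a ⊗ₜ 1
    simp
  · subst h
    simp only [phi, Category.assoc, pullback.lift_snd]
    rw [← Spec.map_comp_assoc, ← Spec.map_comp_assoc, ← CommRingCat.ofHom_comp,
      ← CommRingCat.ofHom_comp]
    congr 3

variable (W : (pullback (Spec.map (CommRingCat.ofHom (algebraMap R A))) g).IdealSheafData)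

theorem flat_quot [Flat g] [Flat (W.subschemeι ≫ pullback.snd _ g)] {E : CommRingCat.{u}}
    [Algebra R E] (w : Spec E ⟶ G) [Flat w]
    (hw : w ≫ g = Spec.map (CommRingCat.ofHom (algebraMap R E))) :
    Module.Flat R ((A ⊗[R] E) ⧸ toIdeal (W.comap (phi (A := A) g w hw))) := by
  let P := CommRingCat.of (A ⊗[R] E)
  let Φ := phi (A := A) g w hw
  let I := W.comap Φ
  let κ : Ideal (A ⊗[R] E) := toIdeal I
  let b := Spec.map (CommRingCat.ofHom
      (Algebra.TensorProduct.includeRight (R := R) (A := A) (B := E)).toRingHom)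
  have h1 : IsPullback ((W.comapIso Φ).hom ≫ pullback.snd _ _) I.subschemeι W.subschemeι Φ :=
    (IsPullback.of_iso_pullback (fst := I.subschemeι) (snd := (W.comapIso Φ).hom ≫ pullback.snd _ _)
      ⟨by rw [Category.assoc, ← pullback.condition, ← Category.assoc, W.comapIso_hom_fst]⟩
      (W.comapIso Φ) (W.comapIso_hom_fst Φ) rfl).flip
  have : Flat (I.subschemeι ≫ b) :=
    MorphismProperty.of_isPullback (h1.paste_vert (isPullback_phi g w hw)) ‹_›
  let j : Spec (CommRingCat.of ((A ⊗[R] E) ⧸ κ)) ⟶ Spec P :=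
    Spec.map (CommRingCat.ofHom (Ideal.Quotient.mk κ))
  have : IsClosedImmersion j := IsClosedImmersion.spec_of_surjective _ Ideal.Quotient.mk_surjective
  have hj : j.ker = I := toIdeal_injective (by
    rw [toIdeal_ker]
    exact Ideal.mk_ker)
  have : Flat (I.subschemeι ≫ b ≫ w ≫ g) := by
    rw [← Category.assoc]
    infer_instance
  have h2 := flat_comp_of_ker_eq j I hj (b ≫ w ≫ g)
  rw [hw, ← Spec.map_comp, ← Spec.map_comp, HasRingHomProperty.Spec_iff (P := @Flat)] at h2
  rw [← RingHom.flat_algebraMap_iff]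
  convert! h2 using 2
  show algebraMap R ((A ⊗[R] E) ⧸ κ) = (Ideal.Quotient.mk κ).comp
    ((Algebra.TensorProduct.includeRight (R := R) (A := A) (B := E)).toRingHom.comp (algebraMap R E))
  rw [AlgHom.toRingHom_eq_coe, AlgHom.comp_algebraMap]
  rfl

set_option maxHeartbeats 1000000 in
theorem exists_comap_eq [IsProper g] [Smooth g] [GeometricallyConnected g]
    [LocallyOfFinitePresentation (Spec.map (CommRingCat.ofHom (algebraMap R A)))]
    [Flat (W.subschemeι ≫ pullback.snd _ g)] [LocallyOfFinitePresentation (W.subschemeι ≫ pullback.snd _ g)]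
    (Z₀₀ : (Spec A).IdealSheafData)
    (hW : ∀ ⦃T : Scheme.{u}⦄ (t : T ⟶ pullback (Spec.map (CommRingCat.ofHom (algebraMap R A))) g),
      (Spec R).nilradical ≤ (t ≫ pullback.fst _ _ ≫ Spec.map (CommRingCat.ofHom (algebraMap R A))).ker →
        W.comap t = Z₀₀.comap (t ≫ pullback.fst _ _)) :
    ∃ J : (Spec A).IdealSheafData, J.comap (pullback.fst _ g) = W := by
  classical
  have : CompactSpace G := QuasiCompact.compactSpace_of_compactSpace g
  let 𝒰 : G.OpenCover := G.affineCover.finiteSubcover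
  let C : CommRingCat.{u} := Γ(∐ 𝒰.X, ⊤)
  let u : Spec C ⟶ G := (∐ 𝒰.X).isoSpec.inv ≫ Sigma.desc 𝒰.f
  have : Flat (Sigma.desc 𝒰.f) := flat_sigmaDesc _
  have : Flat u := inferInstance
  have : Surjective u := inferInstance
  have : IsAffineHom (u ≫ g) := inferInstance
  have : IsAffineHom u := MorphismProperty.of_postcomp @IsAffineHom u g (W' := @IsSeparated)
    inferInstance inferInstance
  have : IsAffine (pullback u u) := isAffine_of_isAffineHom (pullback.fst u u)
  let C' : CommRingCat.{u} := Γ(pullback u u, ⊤)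
  obtain ⟨a, ha⟩ := Spec.map_surjective (u ≫ g)
  letI : Algebra R C := a.hom.toAlgebra
  obtain ⟨f₁, hf₁⟩ := Spec.map_surjective ((pullback u u).isoSpec.inv ≫ pullback.fst u u)
  obtain ⟨f₂, hf₂⟩ := Spec.map_surjective ((pullback u u).isoSpec.inv ≫ pullback.snd u u)
  letI : Algebra R C' := (f₁.hom.comp a.hom).toAlgebra
  have hu : u ≫ g = Spec.map (CommRingCat.ofHom (algebraMap R C)) := ha.symm
  let ψ₁ : C →ₐ[R] C' := ⟨f₁.hom, fun _ => rfl⟩
  have hf12 : a ≫ f₂ = a ≫ f₁ := Spec.map_injective (by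
    rw [Spec.map_comp, Spec.map_comp, ha, hf₁, hf₂]
    simp [pullback.condition_assoc])
  let ψ₂ : C →ₐ[R] C' := ⟨f₂.hom, fun r => congrArg (fun φ => φ.hom r) hf12⟩
  have hP : IsPullback (Spec.map (CommRingCat.ofHom ψ₁.toRingHom))
      (Spec.map (CommRingCat.ofHom ψ₂.toRingHom)) u u := by
    show IsPullback (Spec.map f₁) (Spec.map f₂) u u
    rw [hf₁, hf₂]
    exact IsPullback.of_iso_pullback ⟨by simp [pullback.condition]⟩ (pullback u u).isoSpec.symm rfl rfl
  have hEq := hEq_of_cover g u hu ψ₁ ψ₂ hP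
  let w' : Spec C' ⟶ G := Spec.map (CommRingCat.ofHom ψ₁.toRingHom) ≫ u
  have hw' : w' ≫ g = Spec.map (CommRingCat.ofHom (algebraMap R C')) := by
    rw [Category.assoc, hu, ← Spec.map_comp]
    rfl
  have : Flat w' := by
    have : Flat (Spec.map (CommRingCat.ofHom ψ₁.toRingHom)) :=
      MorphismProperty.of_isPullback hP.flip ‹Flat u›
    infer_instance
  have hflat : ∀ {E : CommRingCat.{u}} [Algebra R E] (w : Spec E ⟶ G) [Flat w],
      w ≫ g = Spec.map (CommRingCat.ofHom (algebraMap R E)) → Module.Flat R E := by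
    intro E _ w _ h
    have h' : Flat (w ≫ g) := inferInstance
    rw [h, HasRingHomProperty.Spec_iff (P := @Flat)] at h'
    exact RingHom.flat_algebraMap_iff.mp h'
  have := hflat u hu
  have := hflat w' hw'
  let Φ := phi (A := A) g u hu
  let K : Ideal (A ⊗[R] C) := toIdeal (W.comap Φ)
  have hKmap : ∀ ψ : C →ₐ[R] C', Spec.map (CommRingCat.ofHom ψ.toRingHom) ≫ u = w' →
      K.map (tmap (A := A) ψ) = toIdeal (W.comap (phi (A := A) g w' hw')) := fun ψ h => by
    rw [← phi_comp g u hu ψ w' hw' h, Scheme.IdealSheafData.comap_comp]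
    exact (toIdeal_comap (W.comap Φ) (CommRingCat.ofHom (tmap (A := A) ψ).toRingHom)).symm
  have : Module.Flat R ((A ⊗[R] C) ⧸ K) := flat_quot g W u hu
  have : Module.Flat R ((A ⊗[R] C') ⧸ K.map (tmap (A := A) ψ₁)) := by
    rw [hKmap ψ₁ rfl]
    exact flat_quot g W w' hw'
  have hKfg : K.FG := by
    have : LocallyOfFinitePresentation W.subschemeι :=
      LimTop61.locallyOfFinitePresentation_of_comp W.subschemeι (pullback.snd _ g)
    have : LocallyOfFinitePresentation (W.comap Φ).subschemeι := by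
      rw [← W.comapIso_hom_fst Φ]
      infer_instance
    exact (LimTop61.fg_ideal_of_lfp (W.comap Φ) ⟨⊤, isAffineOpen_top _⟩).map _
  -- modulo the nilradical the ideal is extended from the base
  let N := nilradical (R : Type u)
  let NP : Ideal (A ⊗[R] C) := N.map (algebraMap R (A ⊗[R] C))
  let J₀₀ : Ideal A := toIdeal Z₀₀
  have hred : K ⊔ NP = ext C J₀₀ ⊔ NP := by
    let m := CommRingCat.ofHom (Ideal.Quotient.mk NP)
    let t := Spec.map m ≫ Φ
    have ht : (Spec R).nilradical ≤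
        (t ≫ pullback.fst _ _ ≫ Spec.map (CommRingCat.ofHom (algebraMap R A))).ker := by
      refine le_of_toIdeal_le ?_
      simp only [t, Φ, Category.assoc, reassoc_of% (phi_fst (A := A) g u hu), ← Spec.map_comp]
      rw [toIdeal_nilradical, toIdeal_ker]
      intro x hx
      show Ideal.Quotient.mk NP (algebraMap R A x ⊗ₜ 1) = 0
      rw [Ideal.Quotient.eq_zero_iff_mem]
      exact Ideal.mem_map_of_mem _ hx
    have h1 := congrArg toIdeal (hW t ht)
    rw [show t ≫ pullback.fst _ _ = Spec.map m ≫ Spec.map (CommRingCat.ofHom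
        (Algebra.TensorProduct.includeLeftRingHom : A →+* A ⊗[R] C)) by
      simp only [t, Φ, Category.assoc, phi_fst], Scheme.IdealSheafData.comap_comp,
      Scheme.IdealSheafData.comap_comp, toIdeal_comap, toIdeal_comap, toIdeal_comap] at h1
    simp only [m, CommRingCat.hom_ofHom] at h1
    have h2 := congrArg (Ideal.comap (Ideal.Quotient.mk NP)) h1
    rw [Ideal.comap_map_of_surjective _ Ideal.Quotient.mk_surjective,
      Ideal.comap_map_of_surjective _ Ideal.Quotient.mk_surjective, ← RingHom.ker_eq_comap_bot,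
      Ideal.mk_ker] at h2
    exact h2
  have hle₁ : K ≤ NP ⊔ ext C J₀₀ := le_sup_left.trans (hred.le.trans (sup_comm _ _).le)
  have hge : ext C J₀₀ ≤ K ⊔ NP := le_sup_left.trans hred.ge
  obtain ⟨J₁, hJ₁fg, hJ₁le, hK₁⟩ := exists_fg_le_sup_map
    (Algebra.TensorProduct.includeLeft : A →ₐ[R] A ⊗[R] C) hKfg hle₁
  have hle₂ : K ≤ ext C J₁ ⊔ NP := hK₁.trans (sup_comm _ _).le
  obtain ⟨I₁, hI₁fg, hI₁le, hK₂⟩ := exists_fg_le_sup_map (algebraMap R (A ⊗[R] C)) hKfg hle₂
  have hfg : (ext (R := R) C J₁).FG := Ideal.FG.map hJ₁fg _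
  have hge₁ : ext C J₁ ≤ K ⊔ NP := (Ideal.map_mono hJ₁le).trans hge
  obtain ⟨I₂, hI₂fg, hI₂le, hK₃⟩ := exists_fg_le_sup_map (algebraMap R (A ⊗[R] C)) hfg hge₁
  have hI : IsNilpotent (I₁ ⊔ I₂) :=
    (Ideal.FG.isNilpotent_iff_le_nilradical (Submodule.FG.sup hI₁fg hI₂fg)).mpr (sup_le hI₁le hI₂le)
  obtain ⟨J, hJ⟩ := exists_ideal_of_thickening hEq K
    ((hKmap ψ₁ rfl).trans (hKmap ψ₂ hP.w.symm).symm) hI J₁
    (le_antisymm (sup_le (hK₂.trans (sup_le_sup_left (Ideal.map_mono le_sup_left) _)) le_sup_right)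
      (sup_le (hK₃.trans (sup_le_sup_left (Ideal.map_mono le_sup_right) _)) le_sup_right))
  refine ⟨_root_.FSch.idealSpec A J, ?_⟩
  have : Flat Φ := MorphismProperty.of_isPullback (isPullback_phi g u hu).flip ‹Flat u›
  have : Surjective Φ := MorphismProperty.of_isPullback (isPullback_phi g u hu).flip ‹Surjective u›
  refine Groth.Agent.FDesc60.S4666 Φ ?_
  show ((_root_.FSch.idealSpec A J).comap (pullback.fst _ g)).comap Φ = W.comap Φ
  apply toIdeal_injective
  rw [← Scheme.IdealSheafData.comap_comp, phi_fst,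
    toIdeal_comap, toIdeal_idealSpec]
  exact hJ.symm

end Groth.Agent.Desc20
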