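import Mathlib

/-!
# Descent of ideals with flat quotient along a nilpotent thickening

Given `R → C ⇉ C'` which is exact after tensoring with every module, an ideal of `A ⊗ C` with flat
quotient, whose two extensions to `A ⊗ C'` agree and which is extended from `A` modulo a nilpotent
ideal of `R`, is extended from `A`.
-/

set_option autoImplicit false
universe u

open scoped TensorProduct

namespace Groth.Agent.Desc20

variable {R A C C' : Type u} [CommRing R] [CommRing A] [CommRing C] [CommRing C'] [Algebra R A]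
  [Algebra R C] [Algebra R C']

/-- The ideal generated by an ideal of the base meets an ideal with flat quotient in the product. -/
theorem map_inf_le {P : Type u} [CommRing P] [Algebra R P] (K : Ideal P) [Module.Flat R (P ⧸ K)]
    (𝔞 : Ideal R) : 𝔞.map (algebraMap R P) ⊓ K ≤ 𝔞.map (algebraMap R P) * K := by
  rintro k ⟨hk1, hk2⟩
  let K' : Submodule R P := K.restrictScalars R
  let π : P →ₗ[R] (P ⧸ K) := (Ideal.Quotient.mkₐ R K).toLinearMap
  have hex : Function.Exact K'.subtype π := fun x => by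
    constructor
    · intro hx; exact ⟨⟨x, Ideal.Quotient.eq_zero_iff_mem.mp hx⟩, rfl⟩
    · rintro ⟨⟨y, hy⟩, rfl⟩; exact Ideal.Quotient.eq_zero_iff_mem.mpr hy
  have hinj := LinearMap.lTensor_injective_of_exact_of_flat π Ideal.Quotient.mk_surjective K'.subtype
    K'.injective_subtype hex (R ⧸ 𝔞)
  have h0 : ∀ x ∈ 𝔞 • (⊤ : Submodule R P), (1 : R ⧸ 𝔞) ⊗ₜ[R] x = 0 := fun x hx => by
    refine Submodule.smul_induction_on hx (fun i hi y _ => ?_)
      fun x y hx hy => by rw [TensorProduct.tmul_add, hx, hy, add_zero]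
    rw [TensorProduct.tmul_smul, TensorProduct.smul_tmul', ← Algebra.algebraMap_eq_smul_one,
      show algebraMap R (R ⧸ 𝔞) i = 0 from Ideal.Quotient.eq_zero_iff_mem.mpr hi, TensorProduct.zero_tmul]
  have h1 : (1 : R ⧸ 𝔞) ⊗ₜ[R] (⟨k, hk2⟩ : K') = 0 := hinj (by
    rw [LinearMap.lTensor_tmul, map_zero]
    refine h0 k ?_
    rw [Ideal.smul_top_eq_map]
    exact hk1)
  have h2 : (⟨k, hk2⟩ : K') ∈ 𝔞 • (⊤ : Submodule R K') := by
    have hex' : Function.Exact (Submodule.subtype 𝔞) (Algebra.linearMap R (R ⧸ 𝔞)) := fun a => by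
      constructor
      · intro ha; exact ⟨⟨a, Ideal.Quotient.eq_zero_iff_mem.mp ha⟩, rfl⟩
      · rintro ⟨⟨b, hb⟩, rfl⟩; exact Ideal.Quotient.eq_zero_iff_mem.mpr hb
    obtain ⟨w, hw⟩ := (rTensor_exact K' hex' Ideal.Quotient.mk_surjective
      ((1 : R) ⊗ₜ[R] (⟨k, hk2⟩ : K'))).mp (by
        rw [LinearMap.rTensor_tmul, show Algebra.linearMap R (R ⧸ 𝔞) 1 = 1 from map_one (algebraMap R (R ⧸ 𝔞))]
        exact h1)
    have e : TensorProduct.lid R K' ((Submodule.subtype 𝔞).rTensor K' w) = ⟨k, hk2⟩ := by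
      rw [hw, TensorProduct.lid_tmul, one_smul]
    rw [← e]
    clear hw e
    induction w with
    | zero => simp
    | tmul a m =>
      rw [LinearMap.rTensor_tmul, TensorProduct.lid_tmul]
      exact Submodule.smul_mem_smul a.2 Submodule.mem_top
    | add x y hx hy => rw [map_add, map_add]; exact add_mem hx hy
  have h3 : ∀ y ∈ 𝔞 • (⊤ : Submodule R K'), (y : P) ∈ 𝔞.map (algebraMap R P) * K := fun y hy => by
    refine Submodule.smul_induction_on hy (fun i hi z _ => ?_)
      fun x y hx hy => Ideal.add_mem _ hx hy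
    show i • (z : P) ∈ _
    rw [Algebra.smul_def]
    exact Ideal.mul_mem_mul (Ideal.mem_map_of_mem _ hi) z.2
  exact h3 _ h2

/-- The extension of an ideal of `A` to `A ⊗ C`. -/
noncomputable abbrev ext (C : Type u) [CommRing C] [Algebra R C] (J : Ideal A) : Ideal (A ⊗[R] C) :=
  J.map (Algebra.TensorProduct.includeLeft : A →ₐ[R] A ⊗[R] C)

theorem ext_map (𝔞 : Ideal R) : ext (A := A) C (𝔞.map (algebraMap R A)) =
    𝔞.map (algebraMap R (A ⊗[R] C)) := by
  show (𝔞.map (algebraMap R A)).map _ = _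
  rw [← AlgHom.comp_algebraMap (Algebra.TensorProduct.includeLeft : A →ₐ[R] A ⊗[R] C)]
  exact Ideal.map_map _ _

theorem rTensor_mkQ_eq_zero_iff (𝔟 : Ideal A) (x : A ⊗[R] C) :
    (𝔟.restrictScalars R).mkQ.rTensor C x = 0 ↔ x ∈ ext C 𝔟 := by
  rw [(rTensor_exact C (LinearMap.exact_subtype_mkQ (𝔟.restrictScalars R))
    (Submodule.mkQ_surjective _) x), ← LinearMap.coe_range, SetLike.mem_coe,
    ← Ideal.map_includeLeft_eq, Submodule.restrictScalars_mem]

variable (ψ₁ ψ₂ : C →ₐ[R] C')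

/-- The extension map `A ⊗ C → A ⊗ C'`. -/
noncomputable abbrev tmap (ψ : C →ₐ[R] C') : A ⊗[R] C →ₐ[R] A ⊗[R] C' :=
  Algebra.TensorProduct.map (AlgHom.id R A) ψ

theorem map_tmap_ext (ψ : C →ₐ[R] C') (J : Ideal A) : (ext C J).map (tmap ψ) = ext C' J := by
  show (J.map ((Algebra.TensorProduct.includeLeft : A →ₐ[R] A ⊗[R] C) : A →+* A ⊗[R] C)).map
    ((tmap ψ : A ⊗[R] C →ₐ[R] A ⊗[R] C') : A ⊗[R] C →+* A ⊗[R] C') =
      J.map ((Algebra.TensorProduct.includeLeft : A →ₐ[R] A ⊗[R] C') : A →+* A ⊗[R] C')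
  rw [Ideal.map_map]
  congr 1
  refine RingHom.ext fun a => ?_
  show tmap ψ (a ⊗ₜ 1) = a ⊗ₜ 1
  simp [tmap]

theorem map_tmap_algebraMap (ψ : C →ₐ[R] C') (𝔞 : Ideal R) :
    (𝔞.map (algebraMap R (A ⊗[R] C))).map (tmap (A := A) ψ) = 𝔞.map (algebraMap R (A ⊗[R] C')) := by
  rw [← ext_map, map_tmap_ext, ext_map]

/-- Exactness of `R → C ⇉ C'` after tensoring with every module. -/
def HEq : Prop :=
  ∀ (M : Type u) [AddCommGroup M] [Module R M] (z : M ⊗[R] C),
    ψ₁.toLinearMap.lTensor M z = ψ₂.toLinearMap.lTensor M z → ∃ m, m ⊗ₜ[R] (1 : C) = z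

variable {ψ₁ ψ₂}

theorem exists_ideal_of_thickening [Module.Flat R C] [Module.Flat R C'] (hEq : HEq ψ₁ ψ₂)
    (K : Ideal (A ⊗[R] C)) (hK : K.map (tmap ψ₁) = K.map (tmap ψ₂))
    [Module.Flat R ((A ⊗[R] C) ⧸ K)] [Module.Flat R ((A ⊗[R] C') ⧸ K.map (tmap ψ₁))]
    {I : Ideal R} (hI : IsNilpotent I) (J₀ : Ideal A)
    (hJ₀ : K ⊔ I.map (algebraMap R (A ⊗[R] C)) = ext C J₀ ⊔ I.map (algebraMap R (A ⊗[R] C))) :
    ∃ J : Ideal A, K = ext C J := by
  have main : ∀ n : ℕ, ∃ J : Ideal A,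
      K ⊔ (I ^ (n + 1)).map (algebraMap R (A ⊗[R] C)) =
        ext C J ⊔ (I ^ (n + 1)).map (algebraMap R (A ⊗[R] C)) := by
    intro n
    induction n with
    | zero => exact ⟨J₀, by rw [zero_add, pow_one]; exact hJ₀⟩
    | succ n ih =>
      obtain ⟨J, hJ⟩ := ih
      set P := A ⊗[R] C
      set P' := A ⊗[R] C'
      let K' : Ideal P' := K.map (tmap ψ₁)
      let Q : Ideal P := (I ^ (n + 1)).map (algebraMap R P)
      let Q₂ : Ideal P := (I ^ (n + 2)).map (algebraMap R P)
      let Q' : Ideal P' := (I ^ (n + 1)).map (algebraMap R P')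
      let Q₂' : Ideal P' := (I ^ (n + 2)).map (algebraMap R P')
      let 𝔟 : Ideal A := (I ^ (n + 1)).map (algebraMap R A) * J₀ ⊔ (I ^ (n + 2)).map (algebraMap R A)
      have hQ₂ : Q₂ = Q * I.map (algebraMap R P) := by
        show (I ^ (n + 2)).map _ = _
        rw [pow_succ, Ideal.map_mul]
      have hQ₂' : Q₂' = Q' * I.map (algebraMap R P') := by
        show (I ^ (n + 2)).map _ = _
        rw [pow_succ, Ideal.map_mul]
      have hQle : Q₂ ≤ Q := Ideal.map_mono (Ideal.pow_le_pow_right (by omega))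
      have hQle' : Q₂' ≤ Q' := Ideal.map_mono (Ideal.pow_le_pow_right (by omega))
      have hb : ext C 𝔟 = Q * ext C J₀ ⊔ Q₂ := by
        show Ideal.map _ (_ ⊔ _) = _
        rw [Ideal.map_sup, Ideal.map_mul]
        rw [show Ideal.map _ ((I ^ (n + 1)).map (algebraMap R A)) = Q from ext_map _,
          show Ideal.map _ ((I ^ (n + 2)).map (algebraMap R A)) = Q₂ from ext_map _]
      have hb' : ext C' 𝔟 = Q' * ext C' J₀ ⊔ Q₂' := by
        show Ideal.map _ (_ ⊔ _) = _
        rw [Ideal.map_sup, Ideal.map_mul]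
        rw [show Ideal.map _ ((I ^ (n + 1)).map (algebraMap R A)) = Q' from ext_map _,
          show Ideal.map _ ((I ^ (n + 2)).map (algebraMap R A)) = Q₂' from ext_map _]
      have hbK : ext C 𝔟 ≤ K ⊔ Q₂ := by
        rw [hb]
        refine sup_le ?_ le_sup_right
        refine (Ideal.mul_mono_right (le_sup_left.trans hJ₀.ge)).trans ?_
        rw [Ideal.mul_sup, ← hQ₂]
        exact sup_le_sup_right Ideal.mul_le_right _
      have hJ₀' : K' ⊔ I.map (algebraMap R P') = ext C' J₀ ⊔ I.map (algebraMap R P') := by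
        show K.map (tmap ψ₁) ⊔ _ = _
        rw [← map_tmap_algebraMap ψ₁ I, ← Ideal.map_sup, hJ₀, Ideal.map_sup, map_tmap_ext,
          map_tmap_algebraMap]
      have key' : ∀ x ∈ Q', x ∈ K' ⊔ Q₂' → x ∈ ext C' 𝔟 := by
        intro x hx hxK
        obtain ⟨k, hk, w, hw, rfl⟩ := Submodule.mem_sup.mp hxK
        have hkQ : k ∈ Q' ⊓ K' := ⟨by simpa using Q'.sub_mem hx (hQle' hw), hk⟩
        have h1 := Ideal.mul_mono_right (le_sup_left.trans hJ₀'.le) (map_inf_le K' (I ^ (n + 1)) hkQ)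
        rw [Ideal.mul_sup, ← hQ₂', ← hb'] at h1
        exact add_mem h1 (hb' ▸ Ideal.mem_sup_right hw)
      have key : ∀ x ∈ Q, x ∈ K ⊔ Q₂ → x ∈ ext C 𝔟 := by
        intro x hx hxK
        obtain ⟨k, hk, w, hw, rfl⟩ := Submodule.mem_sup.mp hxK
        have hkQ : k ∈ Q ⊓ K := ⟨by simpa using Q.sub_mem hx (hQle hw), hk⟩
        have h1 := Ideal.mul_mono_right (le_sup_left.trans hJ₀.le) (map_inf_le K (I ^ (n + 1)) hkQ)
        rw [Ideal.mul_sup, ← hQ₂, ← hb] at h1
        exact add_mem h1 (hb ▸ Ideal.mem_sup_right hw)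
      -- lifting an element of `J`
      have lift : ∀ a ∈ J, ∃ y ∈ (I ^ (n + 1)).map (algebraMap R A),
          (a - y) ⊗ₜ[R] (1 : C) ∈ K ⊔ Q₂ := by
        intro a ha
        have ha' : a ⊗ₜ[R] (1 : C) ∈ K ⊔ Q :=
          hJ.ge (Ideal.mem_sup_left (Ideal.mem_map_of_mem _ ha))
        obtain ⟨k, hk, x, hx, hkx⟩ := Submodule.mem_sup.mp ha'
        let L := A ⧸ 𝔟.restrictScalars R
        let π : A →ₗ[R] L := (𝔟.restrictScalars R).mkQ
        let N : Submodule R L := ((I ^ (n + 1)).map (algebraMap R A)).restrictScalars R |>.map π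
        obtain ⟨z, hz⟩ : ∃ z : N ⊗[R] C, N.subtype.rTensor C z = π.rTensor C x := by
          have hx' : x ∈ ext C ((I ^ (n + 1)).map (algebraMap R A)) := by
            rw [ext_map]; exact hx
          rw [← Submodule.restrictScalars_mem R, Ideal.map_includeLeft_eq] at hx'
          obtain ⟨v, rfl⟩ := hx'
          clear hkx hx
          induction v with
          | zero => exact ⟨0, by simp⟩
          | tmul b c => exact ⟨⟨π b.1, Submodule.mem_map_of_mem b.2⟩ ⊗ₜ c, rfl⟩
          | add v v' hv hv' =>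
            obtain ⟨z, hz⟩ := hv
            obtain ⟨z', hz'⟩ := hv'
            exact ⟨z + z', by simp [map_add, hz, hz']⟩
        have hnat : ∀ (ψ : C →ₐ[R] C') (v : A ⊗[R] C),
            π.rTensor C' (tmap ψ v) = ψ.toLinearMap.lTensor L (π.rTensor C v) := fun ψ v => by
          induction v with
          | zero => simp
          | tmul b c => rfl
          | add v v' hv hv' => simp only [map_add, hv, hv']
        have hnat' : ∀ (ψ : C →ₐ[R] C') (v : N ⊗[R] C), N.subtype.rTensor C' (ψ.toLinearMap.lTensor N v) =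
            ψ.toLinearMap.lTensor L (N.subtype.rTensor C v) := fun ψ v => by
          induction v with
          | zero => simp
          | tmul b c => rfl
          | add v v' hv hv' => simp only [map_add, hv, hv']
        have hdiff : tmap ψ₁ x - tmap ψ₂ x ∈ ext C' 𝔟 := by
          have hQ'mem : ∀ ψ : C →ₐ[R] C', tmap ψ x ∈ Q' := fun ψ =>
            (map_tmap_algebraMap ψ (I ^ (n + 1))).le (Ideal.mem_map_of_mem _ hx)
          refine key' _ (sub_mem (hQ'mem ψ₁) (hQ'mem ψ₂)) (Ideal.mem_sup_left ?_)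
          have e : tmap ψ₁ x - tmap ψ₂ x = tmap ψ₂ k - tmap ψ₁ k := by
            have h1 : tmap ψ₁ (k + x) = tmap ψ₂ (k + x) := by rw [hkx]; simp [tmap]
            rw [map_add, map_add] at h1
            rw [sub_eq_sub_iff_add_eq_add, add_comm, h1, add_comm]
          rw [e]
          exact sub_mem (hK.ge (Ideal.mem_map_of_mem _ hk)) (Ideal.mem_map_of_mem _ hk)
        have hzeq : ψ₁.toLinearMap.lTensor N z = ψ₂.toLinearMap.lTensor N z := by
          apply Module.Flat.rTensor_preserves_injective_linearMap (M := C') N.subtype N.injective_subtype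
          rw [hnat', hnat', hz, ← hnat, ← hnat, ← sub_eq_zero, ← map_sub]
          exact (rTensor_mkQ_eq_zero_iff 𝔟 _).mpr hdiff
        obtain ⟨⟨l, hl⟩, hlz⟩ := hEq N z hzeq
        obtain ⟨y, hy, rfl⟩ := Submodule.mem_map.mp hl
        refine ⟨y, hy, ?_⟩
        have hxy : x - y ⊗ₜ[R] (1 : C) ∈ ext C 𝔟 := by
          rw [← rTensor_mkQ_eq_zero_iff, map_sub, sub_eq_zero]
          show π.rTensor C x = _
          rw [← hz, ← hlz]
          rfl
        rw [TensorProduct.sub_tmul, ← hkx, add_sub_assoc]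
        exact add_mem (Ideal.mem_sup_left hk) (hbK hxy)
      let J' : Ideal A := (K ⊔ Q₂).comap (Algebra.TensorProduct.includeLeft : A →ₐ[R] A ⊗[R] C)
      refine ⟨J', le_antisymm (sup_le ?_ le_sup_right) (sup_le Ideal.map_comap_le le_sup_right)⟩
      have hJle : ext C J ≤ ext C J' ⊔ Q := by
        refine Ideal.map_le_iff_le_comap.mpr fun a ha => ?_
        obtain ⟨y, hy, hay⟩ := lift a ha
        rw [Ideal.mem_comap, show a = (a - y) + y by ring, map_add]
        exact add_mem (Ideal.mem_sup_left (Ideal.mem_map_of_mem _ hay))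
          (Ideal.mem_sup_right ((ext_map (C := C) (I ^ (n + 1))).le (Ideal.mem_map_of_mem _ hy)))
      intro k hk
      have hk' : k ∈ ext C J' ⊔ Q :=
        (hJ.le.trans (sup_le hJle le_sup_right)) (Ideal.mem_sup_left hk)
      obtain ⟨j, hj, x, hx, rfl⟩ := Submodule.mem_sup.mp hk'
      refine add_mem (Ideal.mem_sup_left hj) ?_
      have hxK : x ∈ K ⊔ Q₂ := by
        have := sub_mem (Ideal.mem_sup_left (T := Q₂) hk) (Ideal.map_comap_le hj)
        simpa using this
      have hb_le : ext (R := R) C 𝔟 ≤ ext (R := R) C J' := Ideal.map_mono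
        (Ideal.map_le_iff_le_comap (f := (Algebra.TensorProduct.includeLeft : A →ₐ[R] A ⊗[R] C)) |>.mp hbK)
      exact Ideal.mem_sup_left (hb_le (key x hx hxK))
  obtain ⟨k, hk⟩ := hI
  obtain ⟨J, hJ⟩ := main k
  have h0 : I ^ (k + 1) = ⊥ := by rw [pow_succ, hk]; exact Ideal.bot_mul I
  rw [h0, Ideal.map_bot, sup_bot_eq, sup_bot_eq] at hJ
  exact ⟨J, hJ⟩

end Groth.Agent.Desc20
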