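import Groth.Agent.Rig93.General
import Groth.Agent.AbSch7.SmoothFib
import Groth.Agent.Desc20.Ideal

/-!
# Functions on smooth proper schemes with geometrically connected fibres come from the base
-/

set_option autoImplicit false
universe u
open CategoryTheory CategoryTheory.Limits AlgebraicGeometry TopologicalSpace
open scoped TensorProduct

namespace Groth.Agent.Desc20

theorem exists_appTop_eq {X S : Scheme.{u}} (p : X ⟶ S) [IsProper p] [Smooth p] [GeometricallyConnected p]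
    (s : Γ(X, ⊤)) : ∃ a : Γ(S, ⊤), p.appTop.hom a = s := by
  have := AbSch7.geometricallyReduced_of_smooth p
  have h0 := fun t => Rig93.h0_of_geometrically p t
  let q := 𝔸(PUnit.{u+1}; S) ↘ S
  let f : X ⟶ 𝔸(PUnit.{u+1}; S) := AffineSpace.homOfVector p fun _ => s
  have hf : f ≫ q = p := AffineSpace.homOfVector_over _ _
  have hcol : ∀ t, t ∈ Rig93.collapse p f := by
    intro t x x' hx hx'
    let y := S.fromSpecResidueField t
    obtain ⟨c, hc⟩ := (h0 t).2 ((pullback.fst p y).appTop.hom s)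
    have e : pullback.fst p y ≫ f = pullback.snd p y ≫ AffineSpace.homOfVector y (fun _ => c) := by
      rw [AffineSpace.comp_homOfVector, AffineSpace.comp_homOfVector, pullback.condition]
      exact congrArg _ (funext fun _ => hc.symm)
    have hmem : ∀ z : X, p z = t → z ∈ Set.range (pullback.fst p y) := fun z hz => by
      rw [Scheme.Pullback.range_fst]
      exact (Scheme.range_fromSpecResidueField t).ge hz
    obtain ⟨w, rfl⟩ := hmem x hx
    obtain ⟨w', rfl⟩ := hmem x' hx'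
    show (pullback.fst p y ≫ f) w = (pullback.fst p y ≫ f) w'
    rw [e, Scheme.Hom.comp_apply, Scheme.Hom.comp_apply]
    exact congrArg _ (Subsingleton.elim _ _)
  obtain ⟨-, -, hfac⟩ := Rig93.collapse_general p q f hf h0
  obtain ⟨k, -, hk⟩ := hfac ⊤ fun t _ => hcol t
  let i : X ⟶ (p ⁻¹ᵁ ⊤).toScheme := IsOpenImmersion.lift (p ⁻¹ᵁ ⊤).ι (𝟙 X) (by
    rw [Scheme.Opens.range_ι]; exact fun _ _ => trivial)
  let j : S ⟶ (⊤ : S.Opens).toScheme := IsOpenImmersion.lift (⊤ : S.Opens).ι (𝟙 S) (by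
    rw [Scheme.Opens.range_ι]; exact fun _ _ => trivial)
  have hi : i ≫ (p ⁻¹ᵁ ⊤).ι = 𝟙 X := IsOpenImmersion.lift_fac _ _ _
  have hj : j ≫ (⊤ : S.Opens).ι = 𝟙 S := IsOpenImmersion.lift_fac _ _ _
  have e1 : p ≫ j = i ≫ (p ∣_ ⊤) := by
    rw [← cancel_mono (⊤ : S.Opens).ι, Category.assoc, Category.assoc, hj, morphismRestrict_ι,
      reassoc_of% hi, Category.comp_id]
  have e2 : p ≫ j ≫ k = f := by rw [reassoc_of% e1, ← hk, reassoc_of% hi]
  refine ⟨(j ≫ k).appTop.hom (AffineSpace.coord S PUnit.unit), ?_⟩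
  rw [← CommRingCat.comp_apply, ← Scheme.Hom.comp_appTop, e2]
  exact AffineSpace.homOfVector_appTop_coord p (fun _ => s) PUnit.unit

variable {R : CommRingCat.{u}} {G : Scheme.{u}} (g : G ⟶ Spec R) {C C' : CommRingCat.{u}}
  [Algebra R C] [Algebra R C'] (u : Spec C ⟶ G)

/-- The cover and its double overlap give an exact `R → C ⇉ C'`, universally. -/
theorem hEq_of_cover [IsProper g] [Smooth g] [GeometricallyConnected g] [Flat u] [Surjective u]
    [QuasiCompact u] (hu : u ≫ g = Spec.map (CommRingCat.ofHom (algebraMap R C)))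
    (ψ₁ ψ₂ : C →ₐ[R] C')
    (hP : IsPullback (Spec.map (CommRingCat.ofHom ψ₁.toRingHom)) (Spec.map (CommRingCat.ofHom ψ₂.toRingHom)) u u) :
    HEq (R := (R : Type u)) ψ₁ ψ₂ := by
  intro M _ _ z hz
  letI : Module (↑R)ᵐᵒᵖ M := Module.compHom _ ((RingHom.id (↑R : Type u)).fromOpposite mul_comm)
  haveI : IsCentralScalar (↑R) M := ⟨fun _ _ => rfl⟩
  let D := TrivSqZeroExt (↑R) M
  let T := Spec (CommRingCat.of D)
  let t : T ⟶ Spec R := Spec.map (CommRingCat.ofHom (algebraMap R D))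
  let W := Spec (CommRingCat.of (D ⊗[↑R] C))
  let pD : W ⟶ T := Spec.map (CommRingCat.ofHom
    (Algebra.TensorProduct.includeLeftRingHom : D →+* D ⊗[↑R] C))
  let pC : W ⟶ Spec C := Spec.map (CommRingCat.ofHom
    (Algebra.TensorProduct.includeRight (R := ↑R) (A := D) (B := C)).toRingHom)
  have hW : IsPullback pC pD (u ≫ g) t := by
    rw [hu]
    exact (isPullback_SpecMap_of_isPushout _ _ _ _
      (CommRingCat.isPushout_tensorProduct (↑R) D C)).flip
  let v : W ⟶ pullback g t := pullback.lift (pC ≫ u) pD (by rw [Category.assoc, hW.w])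
  have hv1 : v ≫ pullback.fst g t = pC ≫ u := pullback.lift_fst _ _ _
  have hv2 : v ≫ pullback.snd g t = pD := pullback.lift_snd _ _ _
  have hvP : IsPullback pC v u (pullback.fst g t) := by
    refine IsPullback.of_bot ?_ hv1.symm (IsPullback.of_hasPullback g t)
    rw [hv2]
    exact hW
  have : Flat v := MorphismProperty.of_isPullback hvP ‹Flat u›
  have : Surjective v := MorphismProperty.of_isPullback hvP ‹Surjective u›
  have : QuasiCompact v := MorphismProperty.of_isPullback hvP ‹QuasiCompact u›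
  -- the section
  let Y := Spec (CommRingCat.of (Polynomial (ULift.{u} ℤ)))
  let x : D ⊗[↑R] C := (TrivSqZeroExt.inrHom (↑R) M).rTensor C z
  let ev : ∀ (B : Type u) [CommRing B], B → (CommRingCat.of (Polynomial (ULift.{u} ℤ)) ⟶ CommRingCat.of B) :=
    fun B _ b => CommRingCat.ofHom
      (Polynomial.eval₂RingHom ((Int.castRingHom B).comp ULift.ringEquiv.toRingHom) b)
  let D₂ := D ⊗[↑R] C'
  let Ψ : (C →ₐ[↑R] C') → (D ⊗[↑R] C →ₐ[↑R] D₂) := fun ψ => Algebra.TensorProduct.map (AlgHom.id _ D) ψ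
  have hΨ : Ψ ψ₁ x = Ψ ψ₂ x := by
    have e : ∀ ψ : C →ₐ[↑R] C', Ψ ψ x = (TrivSqZeroExt.inrHom (↑R) M).rTensor C' (ψ.toLinearMap.lTensor M z) := by
      intro ψ
      show Ψ ψ ((TrivSqZeroExt.inrHom (↑R) M).rTensor C z) = _
      clear hz x
      induction z with
      | zero => simp
      | tmul m c => rfl
      | add a b ha hb => simp only [map_add, ha, hb]
    rw [e, e, hz]
  let W₂ := Spec (CommRingCat.of D₂)
  have hdesc : ∀ {Z : Scheme.{u}} (g₁ g₂ : Z ⟶ W), g₁ ≫ v = g₂ ≫ v →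
      g₁ ≫ Spec.map (ev (D ⊗[↑R] C) x) = g₂ ≫ Spec.map (ev (D ⊗[↑R] C) x) := by
    intro Z g₁ g₂ h12
    have hC : (g₁ ≫ pC) ≫ u = (g₂ ≫ pC) ≫ u := by
      rw [Category.assoc, Category.assoc, ← hv1, reassoc_of% h12]
    have hD : g₁ ≫ pD = g₂ ≫ pD := by rw [← hv2, reassoc_of% h12]
    let lC := hP.lift (g₁ ≫ pC) (g₂ ≫ pC) hC
    let b₂ : Spec C' ⟶ Spec R := Spec.map (CommRingCat.ofHom (algebraMap (↑R) C'))
    have hW₂ : IsPullback (Spec.map (CommRingCat.ofHom
          (Algebra.TensorProduct.includeRight (R := ↑R) (A := D) (B := C')).toRingHom))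
        (Spec.map (CommRingCat.ofHom (Algebra.TensorProduct.includeLeftRingHom : D →+* D₂))) b₂ t :=
      (isPullback_SpecMap_of_isPushout _ _ _ _ (CommRingCat.isPushout_tensorProduct (↑R) D C')).flip
    have hb₂ : ∀ ψ : C →ₐ[↑R] C', Spec.map (CommRingCat.ofHom ψ.toRingHom) ≫ u ≫ g = b₂ := fun ψ => by
      rw [hu, ← Spec.map_comp, ← CommRingCat.ofHom_comp]; congr 2; exact ψ.comp_algebraMap
    let l := hW₂.lift lC (g₁ ≫ pD) (by
      rw [← hb₂ ψ₁, reassoc_of% hP.lift_fst]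
      simp only [Category.assoc]
      rw [← hW.w])
    have hg : ∀ (ψ : C →ₐ[↑R] C') (gi : Z ⟶ W),
        lC ≫ Spec.map (CommRingCat.ofHom ψ.toRingHom) = gi ≫ pC → g₁ ≫ pD = gi ≫ pD →
        gi = l ≫ Spec.map (CommRingCat.ofHom (Ψ ψ).toRingHom) := by
      intro ψ gi e1 e2
      apply hW.hom_ext
      · rw [Category.assoc, ← Spec.map_comp, ← CommRingCat.ofHom_comp,
          show (Ψ ψ).toRingHom.comp (Algebra.TensorProduct.includeRight (R := ↑R) (A := D) (B := C)).toRingHom =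
            (Algebra.TensorProduct.includeRight (R := ↑R) (A := D) (B := C')).toRingHom.comp ψ.toRingHom from
            RingHom.ext fun c => by
              show Algebra.TensorProduct.map (AlgHom.id _ D) ψ (1 ⊗ₜ c) = (1 : D) ⊗ₜ ψ c
              simp,
          CommRingCat.ofHom_comp, Spec.map_comp, hW₂.lift_fst_assoc, e1]
      · rw [Category.assoc, ← Spec.map_comp, ← CommRingCat.ofHom_comp,
          show (Ψ ψ).toRingHom.comp (Algebra.TensorProduct.includeLeftRingHom : D →+* D ⊗[↑R] C) =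
            (Algebra.TensorProduct.includeLeftRingHom : D →+* D₂) from RingHom.ext fun c => by
              show Algebra.TensorProduct.map (AlgHom.id _ D) ψ (c ⊗ₜ 1) = c ⊗ₜ (1 : C')
              simp,
          hW₂.lift_snd, e2]
    have hev : ∀ ψ : C →ₐ[↑R] C', Spec.map (CommRingCat.ofHom (Ψ ψ).toRingHom) ≫ Spec.map (ev (D ⊗[↑R] C) x) =
        Spec.map (ev D₂ (Ψ ψ x)) := fun ψ => by
      rw [← Spec.map_comp]
      congr 1
      ext1
      exact Polynomial.ringHom_ext (fun n => by simp [ev]) (by simp [ev])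
    rw [hg ψ₁ g₁ (hP.lift_fst _ _ _) rfl, hg ψ₂ g₂ (hP.lift_snd _ _ _) hD, Category.assoc, Category.assoc,
      hev, hev, hΨ]
  let k : pullback g t ⟶ Y := EffectiveEpi.desc v _ hdesc
  obtain ⟨a, ha⟩ := exists_appTop_eq (pullback.snd g t)
    (k.appTop.hom ((Scheme.ΓSpecIso _).inv.hom Polynomial.X))
  let d : D := (Scheme.ΓSpecIso (CommRingCat.of D)).hom.hom a
  have hxd : x = d ⊗ₜ[↑R] (1 : C) := by
    have h1 := congrArg v.appTop.hom ha
    rw [← CommRingCat.comp_apply, ← Scheme.Hom.comp_appTop, hv2, ← CommRingCat.comp_apply,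
      ← Scheme.Hom.comp_appTop, show v ≫ k = _ from EffectiveEpi.fac v _ hdesc] at h1
    have h2 := congrArg (Scheme.ΓSpecIso (CommRingCat.of (D ⊗[↑R] C))).hom.hom h1
    rw [← CommRingCat.comp_apply, Scheme.ΓSpecIso_naturality, ← CommRingCat.comp_apply,
      Scheme.ΓSpecIso_naturality] at h2
    refine Eq.trans ?_ h2.symm
    show x = (ev (D ⊗[↑R] C) x).hom ((Scheme.ΓSpecIso _).hom.hom ((Scheme.ΓSpecIso _).inv.hom Polynomial.X))
    rw [← CommRingCat.comp_apply (Scheme.ΓSpecIso _).inv, Iso.inv_hom_id]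
    exact (Polynomial.eval₂_X _ _).symm
  refine ⟨TrivSqZeroExt.snd d, ?_⟩
  have h3 := congrArg ((TrivSqZeroExt.sndHom (↑R) M).rTensor C) hxd
  rw [LinearMap.rTensor_tmul] at h3
  refine Eq.trans h3.symm ?_
  show (TrivSqZeroExt.sndHom (↑R) M).rTensor C ((TrivSqZeroExt.inrHom (↑R) M).rTensor C z) = z
  rw [← LinearMap.rTensor_comp_apply,
    show (TrivSqZeroExt.sndHom (↑R) M) ∘ₗ TrivSqZeroExt.inrHom (↑R) M = LinearMap.id from LinearMap.ext fun _ => rfl,
    LinearMap.rTensor_id, LinearMap.id_apply]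

end Groth.Agent.Desc20
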