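import Groth.Agent.Desc20.Affine
import Groth.Agent.Sga84.IdealDescent
import Groth.Agent.LimTop61.IdealGlue
import Groth.Agent.FlatMor66.FlatDescentSource
import Groth.Agent.MP99.Coprod
import Mathlib.AlgebraicGeometry.Morphisms.LocalFlatDescent

/-!
# Descent of flat closed subschemes along a smooth proper morphism
-/

set_option autoImplicit false
universe u
open CategoryTheory CategoryTheory.Limits AlgebraicGeometry TopologicalSpace

namespace Groth.Agent.Desc20

theorem isPullback_subscheme {P X : Scheme.{u}} (f : P ⟶ X) (I : X.IdealSheafData) :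
    IsPullback ((I.comapIso f).hom ≫ pullback.snd _ _) (I.comap f).subschemeι I.subschemeι f :=
  (IsPullback.of_iso_pullback (fst := (I.comap f).subschemeι)
    (snd := (I.comapIso f).hom ≫ pullback.snd _ _)
    ⟨by rw [Category.assoc, ← pullback.condition, ← Category.assoc, I.comapIso_hom_fst]⟩
    (I.comapIso f) (I.comapIso_hom_fst f) rfl).flip

theorem map_comap_of_isPullback {P X Q Y : Scheme.{u}} {f : P ⟶ X} {r : P ⟶ Q} {q : X ⟶ Y} {a : Q ⟶ Y}
    (h : IsPullback f r q a) [Flat a] (W : X.IdealSheafData) [QuasiCompact (W.subschemeι ≫ q)] :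
    (W.map q).comap a = (W.comap f).map r := by
  have h' := (isPullback_subscheme f W).paste_vert h
  rw [Scheme.IdealSheafData.map, Scheme.IdealSheafData.map, Sga84.ker_comap_of_flat,
    ← h'.isoPullback_hom_snd, Scheme.Hom.ker_comp_of_isIso]

theorem ext_of_forall_comap {X : Scheme.{u}} (I J : X.IdealSheafData)
    (h : ∀ x : X, ∃ (Y : Scheme.{u}) (j : Y ⟶ X) (_ : IsOpenImmersion j),
      x ∈ Set.range j ∧ I.comap j = J.comap j) : I = J := by
  choose Y j hj hx he using h
  have hU : ∀ x : X, ∃ U : X.Opens, IsAffineOpen U ∧ x ∈ U ∧ (U : Set X) ⊆ Set.range (j x) := fun x => by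
    obtain ⟨_, ⟨U, hU, rfl⟩, hxU, hUle⟩ := X.isBasis_affineOpens.exists_subset_of_mem_open
      (hx x) (j x).isOpenEmbedding.isOpen_range
    exact ⟨U, hU, hxU, hUle⟩
  choose U hUa hxU hUle using hU
  refine LimTop61.ext_of_comap_eq U hUa ?_ I J fun x => ?_
  · exact top_le_iff.mp fun x _ => Opens.mem_iSup.mpr ⟨x, hxU x⟩
  · have := hj x
    rw [← IsOpenImmersion.lift_fac (j x) (U x).ι (by rw [Scheme.Opens.range_ι]; exact hUle x),
      Scheme.IdealSheafData.comap_comp, Scheme.IdealSheafData.comap_comp, he x]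

theorem nilradical_le_map {T S : Scheme.{u}} (b : T ⟶ S) : S.nilradical ≤ T.nilradical.map b := by
  rw [Scheme.IdealSheafData.le_map_iff_comap_le]
  refine le_trans (Scheme.IdealSheafData.le_radical _) ?_
  have hs : (S.nilradical.comap b).support = ⊤ := by
    ext x; simp [Scheme.IdealSheafData.support_comap]
  rw [← Scheme.IdealSheafData.vanishingIdeal_support, hs, Scheme.IdealSheafData.vanishingIdeal_top]

theorem of_comp_mono (P : MorphismProperty Scheme.{u}) [P.IsStableUnderBaseChange] {A B C : Scheme.{u}}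
    (f : A ⟶ B) (ι : B ⟶ C) [Mono ι] (h : P (f ≫ ι)) : P f := by
  have := (IsPullback.of_horiz_isIso (fst := 𝟙 A) (snd := f) (f := f) (g := 𝟙 B) ⟨by simp⟩).paste_vert
    (IsKernelPair.id_of_mono ι)
  exact MorphismProperty.of_isPullback (by simpa using this) h

theorem exists_comap_eq_spec {R A : CommRingCat.{u}} (φ : R ⟶ A) [LocallyOfFinitePresentation (Spec.map φ)]
    {G : Scheme.{u}} (g : G ⟶ Spec R) [IsProper g] [Smooth g] [GeometricallyConnected g]
    (W : (pullback (Spec.map φ) g).IdealSheafData)
    [Flat (W.subschemeι ≫ pullback.snd _ g)] [LocallyOfFinitePresentation (W.subschemeι ≫ pullback.snd _ g)]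
    (Z₀₀ : (Spec A).IdealSheafData)
    (hW : ∀ ⦃T : Scheme.{u}⦄ (t : T ⟶ pullback (Spec.map φ) g),
      (Spec R).nilradical ≤ (t ≫ pullback.fst _ _ ≫ Spec.map φ).ker →
        W.comap t = Z₀₀.comap (t ≫ pullback.fst _ _)) :
    ∃ J : (Spec A).IdealSheafData, J.comap (pullback.fst _ g) = W :=
  letI : Algebra R A := φ.hom.toAlgebra
  exists_comap_eq (R := R) (A := A) g W Z₀₀ hW

variable {S X G : Scheme.{u}} (p : X ⟶ S) (g : G ⟶ S)

theorem comap_map_fst_eq [LocallyOfFinitePresentation p] [IsProper g] [Smooth g] [GeometricallyConnected g]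
    (W : (pullback p g).IdealSheafData)
    [Flat (W.subschemeι ≫ pullback.snd p g)] [LocallyOfFinitePresentation (W.subschemeι ≫ pullback.snd p g)]
    (Z₀₀ : X.IdealSheafData)
    (hW : ∀ ⦃T : Scheme.{u}⦄ (t : T ⟶ pullback p g),
      S.nilradical ≤ (t ≫ pullback.fst p g ≫ p).ker → W.comap t = Z₀₀.comap (t ≫ pullback.fst p g)) :
    (W.map (pullback.fst p g)).comap (pullback.fst p g) = W := by
  refine ext_of_forall_comap _ _ fun y => ?_
  obtain ⟨V, hV, hyV, -⟩ := exists_isAffineOpen_mem_and_subset (X := S)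
    (x := p (pullback.fst p g y)) (U := ⊤) trivial
  obtain ⟨U, hU, hyU, hUV⟩ := exists_isAffineOpen_mem_and_subset (X := X)
    (x := pullback.fst p g y) (U := p ⁻¹ᵁ V) hyV
  let φ := p.appLE V U hUV
  let a := hU.fromSpec
  let b := hV.fromSpec
  have hab : Spec.map φ ≫ b = a ≫ p := hV.SpecMap_appLE_fromSpec p hU hUV
  have : LocallyOfFinitePresentation (Spec.map φ) := by
    rw [HasRingHomProperty.Spec_iff (P := @LocallyOfFinitePresentation)]
    exact HasRingHomProperty.appLE @LocallyOfFinitePresentation p inferInstance ⟨V, hV⟩ ⟨U, hU⟩ hUV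
  let g' := pullback.snd g b
  let j : pullback (Spec.map φ) g' ⟶ pullback p g :=
    pullback.lift (pullback.fst _ _ ≫ a) (pullback.snd _ _ ≫ pullback.fst g b) (by
      rw [Category.assoc, ← hab, Category.assoc, pullback.condition, pullback.condition_assoc])
  have hj : IsPullback j (pullback.fst (Spec.map φ) g') (pullback.fst p g) a := by
    refine (IsPullback.of_right ?_ (pullback.lift_fst _ _ _).symm.symm
      (IsPullback.of_hasPullback p g).flip).flip.flip
    rw [pullback.lift_snd, ← hab]
    exact ((IsPullback.of_hasPullback (Spec.map φ) g').flip.paste_horiz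
      (IsPullback.of_hasPullback g b))
  have : IsOpenImmersion j := MorphismProperty.of_isPullback hj.flip inferInstance
  let c := (W.comapIso j).hom ≫ pullback.snd _ _
  have hc : IsPullback c (W.comap j).subschemeι W.subschemeι j := isPullback_subscheme j W
  have : IsOpenImmersion c := MorphismProperty.of_isPullback hc.flip ‹IsOpenImmersion j›
  have he : ((W.comap j).subschemeι ≫ pullback.snd (Spec.map φ) g') ≫ pullback.fst g b =
      c ≫ W.subschemeι ≫ pullback.snd p g := by
    rw [reassoc_of% hc.w, pullback.lift_snd, Category.assoc]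
  have : Flat ((W.comap j).subschemeι ≫ pullback.snd (Spec.map φ) g') :=
    of_comp_mono @Flat _ (pullback.fst g b) (by rw [he]; exact inferInstanceAs (Flat _))
  have : LocallyOfFinitePresentation ((W.comap j).subschemeι ≫ pullback.snd (Spec.map φ) g') :=
    of_comp_mono @LocallyOfFinitePresentation _ (pullback.fst g b)
      (by rw [he]; exact inferInstanceAs (LocallyOfFinitePresentation _))
  obtain ⟨J, hJ⟩ := exists_comap_eq_spec φ g' (W.comap j) (Z₀₀.comap a) (fun T t ht => by
    rw [← Scheme.IdealSheafData.comap_comp, hW (t ≫ j), ← Scheme.IdealSheafData.comap_comp,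
      Category.assoc, hj.w, Category.assoc]
    rw [show (t ≫ j) ≫ pullback.fst p g ≫ p = (t ≫ pullback.fst _ _ ≫ Spec.map φ) ≫ b by
      simp only [Category.assoc, hab, reassoc_of% hj.w], Scheme.Hom.ker_comp]
    exact (nilradical_le_map b).trans (Scheme.IdealSheafData.map_mono b ht))
  refine ⟨_, j, inferInstance, ?_, ?_⟩
  · obtain ⟨w, hw⟩ : pullback.fst p g y ∈ Set.range a := by
      rw [IsAffineOpen.range_fromSpec]; exact hyU
    obtain ⟨z, hz, -⟩ := Scheme.Pullback.exists_preimage_pullback (f := pullback.fst p g) (g := a) y w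
      hw.symm
    refine ⟨hj.isoPullback.inv z, ?_⟩
    rw [← Scheme.Hom.comp_apply, hj.isoPullback_inv_fst, hz]
  · have : Surjective g' := inferInstance
    have : Flat (pullback.fst (Spec.map φ) g') := inferInstance
    rw [← Scheme.IdealSheafData.comap_comp, hj.w, Scheme.IdealSheafData.comap_comp,
      map_comap_of_isPullback hj, ← hJ, Sga84.map_comap_of_flat_surjective]

theorem existsUnique_of_nilradical [LocallyOfFinitePresentation p] [IsProper g] [Smooth g]
    [GeometricallyConnected g]
    (Z₀ : (pullback p S.nilradical.subschemeι).IdealSheafData)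
    (W : (pullback p g).IdealSheafData)
    [Flat (W.subschemeι ≫ pullback.snd p g)] [LocallyOfFinitePresentation (W.subschemeι ≫ pullback.snd p g)]
    (hW : W.comap (pullback.fst (pullback.fst p g ≫ p) S.nilradical.subschemeι) =
      Z₀.comap (pullback.map (pullback.fst p g ≫ p) S.nilradical.subschemeι p S.nilradical.subschemeι
        (pullback.fst p g) (𝟙 _) (𝟙 S) (Category.comp_id _)
        ((Category.comp_id _).trans (Category.id_comp _).symm))) :
    ∃! Z : X.IdealSheafData, Flat (Z.subschemeι ≫ p) ∧ LocallyOfFinitePresentation (Z.subschemeι ≫ p) ∧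
      Z.comap (pullback.fst p S.nilradical.subschemeι) = Z₀ ∧ Z.comap (pullback.fst p g) = W := by
  let q := pullback.fst p g
  let i := S.nilradical.subschemeι
  let Z₀₀ := Z₀.map (pullback.fst p i)
  have hred : ∀ ⦃T : Scheme.{u}⦄ (t : T ⟶ pullback p g),
      S.nilradical ≤ (t ≫ q ≫ p).ker → W.comap t = Z₀₀.comap (t ≫ q) := by
    intro T t ht
    obtain ⟨l, hl⟩ : ∃ l, l ≫ i = t ≫ q ≫ p :=
      ⟨IsClosedImmersion.lift i _ (by rw [Scheme.IdealSheafData.ker_subschemeι]; exact ht),
        IsClosedImmersion.lift_fac _ _ _⟩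
    let t' : T ⟶ pullback (q ≫ p) i := pullback.lift t l (by rw [hl])
    let m : pullback (q ≫ p) i ⟶ pullback p i :=
      pullback.map (q ≫ p) i p i q (𝟙 _) (𝟙 S) (Category.comp_id _)
        ((Category.comp_id _).trans (Category.id_comp _).symm)
    have hm1 : m ≫ pullback.fst p i = pullback.fst _ _ ≫ q := pullback.lift_fst _ _ _
    have ht' : t' ≫ pullback.fst _ _ = t := pullback.lift_fst _ _ _
    calc W.comap t = (W.comap (pullback.fst (q ≫ p) i)).comap t' := by
          rw [← Scheme.IdealSheafData.comap_comp, ht']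
      _ = (Z₀.comap m).comap t' := congrArg (fun K => Scheme.IdealSheafData.comap K t') hW
      _ = Z₀₀.comap (t ≫ q) := by
          rw [← ht', Category.assoc, ← hm1, Scheme.IdealSheafData.comap_comp,
            Scheme.IdealSheafData.comap_comp, MP99.comap_map_of_mono]
  let Z := W.map q
  have hZ : Z.comap q = W := comap_map_fst_eq p g W Z₀₀ hred
  have : Surjective g := inferInstance
  have : Flat q := inferInstance
  have : Surjective q := inferInstance
  have h1 : IsPullback ((Z.comapIso q).hom ≫ pullback.snd _ _) ((Z.comap q).subschemeι ≫ pullback.snd p g)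
      (Z.subschemeι ≫ p) g :=
    (isPullback_subscheme q Z).paste_vert (IsPullback.of_hasPullback p g)
  have hWflat : Flat ((Z.comap q).subschemeι ≫ pullback.snd p g) := by rw [hZ]; infer_instance
  have hWlfp : LocallyOfFinitePresentation ((Z.comap q).subschemeι ≫ pullback.snd p g) := by
    rw [hZ]; infer_instance
  have hflat : Flat (Z.subschemeι ≫ p) := by
    let c := (Z.comapIso q).hom ≫ pullback.snd _ _
    have : Flat c := MorphismProperty.of_isPullback h1.flip (inferInstanceAs (Flat g))
    have : Surjective c := MorphismProperty.of_isPullback h1.flip ‹Surjective g›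
    have : Flat (c ≫ Z.subschemeι ≫ p) := by rw [h1.w]; infer_instance
    exact FlatMor66.flat_of_comp_surjective c _
  have hlfp : LocallyOfFinitePresentation (Z.subschemeι ≫ p) :=
    MorphismProperty.of_isPullback_of_descendsAlong (Q := @Surjective ⊓ @Flat ⊓ @QuasiCompact)
      h1.flip ⟨⟨inferInstance, inferInstance⟩, inferInstance⟩ hWlfp
  refine ⟨Z, ⟨hflat, hlfp, ?_, hZ⟩, ?_⟩
  · let m : pullback (q ≫ p) i ⟶ pullback p i :=
      pullback.map (q ≫ p) i p i q (𝟙 _) (𝟙 S) (Category.comp_id _)
        ((Category.comp_id _).trans (Category.id_comp _).symm)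
    have hm : IsPullback m (pullback.fst (q ≫ p) i) (pullback.fst p i) q := by
      refine (IsPullback.of_bot ?_ (pullback.lift_fst _ _ _).symm (IsPullback.of_hasPullback p i)).flip
      rw [show m ≫ pullback.snd p i = pullback.snd _ _ from
        (pullback.lift_snd _ _ _).trans (Category.comp_id _)]
      exact IsPullback.of_hasPullback (q ≫ p) i
    have : Flat m := MorphismProperty.of_isPullback hm.flip ‹Flat q›
    have : Surjective m := MorphismProperty.of_isPullback hm.flip ‹Surjective q›
    refine FDesc60.S4666 m ?_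
    show (Z.comap (pullback.fst p i)).comap m = Z₀.comap m
    rw [← Scheme.IdealSheafData.comap_comp, hm.w, Scheme.IdealSheafData.comap_comp, hZ]
    exact hW
  · rintro Z' ⟨-, -, -, hZ'⟩
    exact FDesc60.S4666 q (hZ'.trans hZ.symm)

end Groth.Agent.Desc20
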